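import Groth.Agent.H5.PerfectPull
import Groth.Agent.H5.Stalk.PullbackFlat
import Groth.Agent.H17.K0.Basic
import Groth.Prelude.Def_KRR

/-!
# The pull-back `f^K : Kvb Y → Kvb X` on K₀ of finite locally free modules
-/

set_option autoImplicit false
universe u
open CategoryTheory CategoryTheory.Limits AlgebraicGeometry

namespace Groth.Agent.H30.KRRPull

open KZero Groth.Agent.H17.K0

variable {X Y : Scheme.{u}} (f : X ⟶ Y)

/-- pull-back of vector bundle classes -/
noncomputable def pullVb : SGA6.Kvb Y →+ SGA6.Kvb X :=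
  lift (KRR.vbP Y) (fun E => KRR.cl X ((Scheme.Modules.pullback f).obj E.1)) (by
    intro S h₁ h₂ h₃ hS
    have hflat : FlatMod.IsFlat S.X₃ := Groth.Agent.H5.PerfectPull.flatMod_of_isFinLocFree _ h₃
    have hS' := Groth.Agent.H5.Stalk.pullback_map_shortExact_of_flat f S hS hflat
    exact clSub_shortExact (KRR.vbP X) _ hS'
      (Groth.Agent.H5.PerfectPull.isFinLocFree_pullback f _ h₁)
      (Groth.Agent.H5.PerfectPull.isFinLocFree_pullback f _ h₂)
      (Groth.Agent.H5.PerfectPull.isFinLocFree_pullback f _ h₃))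

lemma pullVb_cl (E : Y.Modules) (hE : FlatMod.IsFinLocFree E) :
    pullVb f (KRR.cl Y E) = KRR.cl X ((Scheme.Modules.pullback f).obj E) :=
  lift_clSub (KRR.vbP Y) _ _ hE

end Groth.Agent.H30.KRRPull
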